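import Mathlib
import Cfsg.Agent.Lib.Helper31.Siegel.Defs

/-!
# Project Siegel (S5072), package [R1]: opposite lines in dual position give a rank one pair
-/

set_option autoImplicit false
open scoped Matrix

namespace Cfsg.Agent.Lib.Helper43.Siegel

open Cfsg.Agent.Lib.Helper31.Siegel

universe u

section

variable {n : ℕ} {F : Type u} [Field F]

theorem r1_B_line {p r : Vec n F} (h : IsSingLine p r) : B p r = 0 := by
  obtain ⟨-, hp, hr, hpr⟩ := h
  rw [Q_add, hp, hr] at hpr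
  simpa using hpr

theorem r1_B_self {p : Vec n F} (h : QF n F p = 0) : B p p = 0 := by
  rw [B_self, h, mul_zero]

/-- the one-sided rank one condition -/
theorem r1_cond (hP : PkgParam.{u}) (hE : PkgExist.{u}) (hA : PkgAlg.{u}) (hC : PkgConj.{u})
    (hR : PkgRebase.{u}) (p r s t : Vec n F) (hpr : IsSingLine p r) (hst : IsSingLine s t)
    (h1 : B p s = 1) (h2 : B r t = 1) (h3 : B p t = 0) (h4 : B r s = 0) :
    Cfsg.RankOneCondition (T p r) (T s t) := by
  intro a ha ha1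
  obtain ⟨c, hc⟩ := (hP n F p r hpr a).mp ha
  obtain ⟨-, -, hinv, hone, -, -⟩ := hA n F p r hpr
  have hc0 : c ≠ 0 := fun h => ha1 ((hone c a hc).mpr h)
  obtain ⟨b, hb⟩ := hE n F s t hst (-c⁻¹)
  obtain ⟨-, -, hinv', hone', -, -⟩ := hA n F s t hst
  refine ⟨b, (hP n F s t hst b).mpr ⟨_, hb⟩, ?_, ?_⟩
  · intro hb1
    have h := (hone' _ b hb).mp hb1
    exact hc0 (inv_eq_zero.mp (neg_eq_zero.mp h))
  · have hainv := hinv c a hc
    have hbinv := hinv' _ b hb
    obtain ⟨hl1, e1⟩ := hC n F p r hpr b⁻¹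
    obtain ⟨hl2, e2⟩ := hC n F s t hst a⁻¹
    rw [e1, e2]
    have h1' : B s p = 1 := by rw [B_comm]; exact h1
    have h2' : B t r = 1 := by rw [B_comm]; exact h2
    have h3' : B t p = 0 := by rw [B_comm]; exact h3
    have h4' : B s r = 0 := by rw [B_comm]; exact h4
    have ep : mat b⁻¹ *ᵥ p = (0 : F) • (mat a⁻¹ *ᵥ s) + (-c⁻¹) • (mat a⁻¹ *ᵥ t) := by
      rw [hbinv p, hainv s, hainv t, h3, h1, h4', h1', h2', h3']
      funext j
      simp only [Pi.add_apply, Pi.sub_apply, Pi.smul_apply, smul_eq_mul]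
      field_simp
      ring
    have er : mat b⁻¹ *ᵥ r = c⁻¹ • (mat a⁻¹ *ᵥ s) + (0 : F) • (mat a⁻¹ *ᵥ t) := by
      rw [hbinv r, hainv s, hainv t, h2, h4, h4', h1', h2', h3']
      funext j
      simp only [Pi.add_apply, Pi.sub_apply, Pi.smul_apply, smul_eq_mul]
      field_simp
      ring
    refine (hR n F _ _ _ _ hl2 ⟨0, -c⁻¹, c⁻¹, 0, ?_, ep, er⟩).2
    have : c⁻¹ ≠ 0 := inv_ne_zero hc0
    intro h
    apply this
    have h5 : c⁻¹ * c⁻¹ = 0 := by linear_combination h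
    exact mul_self_eq_zero.mp h5

theorem r1_comm (hP : PkgParam.{u}) (hA : PkgAlg.{u}) (p r : Vec n F) (hpr : IsSingLine p r)
    (a b : ↥(Iso n F)) (ha : a ∈ T p r) (hb : b ∈ T p r) : a * b = b * a := by
  obtain ⟨c, hc⟩ := (hP n F p r hpr a).mp ha
  obtain ⟨d, hd⟩ := (hP n F p r hpr b).mp hb
  obtain ⟨-, hmul, -, -, -, -⟩ := hA n F p r hpr
  have e1 := hmul c d a b hc hd
  have e2 := hmul d c b a hd hc
  rw [add_comm] at e2
  exact isSiegel_ext e1 e2

theorem r1_nilp (hP : PkgParam.{u}) (hA : PkgAlg.{u}) (p r : Vec n F) (hpr : IsSingLine p r) :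
    Group.IsNilpotent ↥(T p r) := by
  let _ : CommGroup ↥(T p r) :=
    { (inferInstance : Group ↥(T p r)) with
      mul_comm := fun a b => Subtype.ext (r1_comm hP hA p r hpr a.1 b.1 a.2 b.2) }
  exact CommGroup.isNilpotent

theorem r1_ne (hP : PkgParam.{u}) (hE : PkgExist.{u}) (p r s t : Vec n F)
    (hpr : IsSingLine p r) (hst : IsSingLine s t)
    (h1 : B p s = 1) (h2 : B r t = 1) (h4 : B r s = 0) : T p r ≠ T s t := by
  intro he
  obtain ⟨σ, hσ⟩ := hE n F p r hpr 1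
  have hmem : σ ∈ T p r := (hP n F p r hpr σ).mpr ⟨_, hσ⟩
  rw [he] at hmem
  obtain ⟨d, hd⟩ := (hP n F s t hst σ).mp hmem
  have e := (hσ s).symm.trans (hd s)
  have h1' : B s p = 1 := by rw [B_comm]; exact h1
  have h4' : B s r = 0 := by rw [B_comm]; exact h4
  rw [h4', h1', r1_B_line hst, r1_B_self hst.2.1] at e
  have hr : r = 0 := by
    funext j
    have := congrFun e j
    simp only [Pi.add_apply, Pi.sub_apply, Pi.smul_apply, smul_eq_mul, mul_zero, zero_mul, add_zero,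
      sub_zero, mul_one, one_mul] at this
    simpa using this
  rw [hr, B_zero_left] at h2
  exact zero_ne_one h2

/-- [R1] (from [PARAM], [EXIST], [ALG], [CONJ], [REBASE]). -/
theorem pkgR1_of (hP : PkgParam.{u}) (hE : PkgExist.{u}) (hA : PkgAlg.{u}) (hC : PkgConj.{u})
    (hR : PkgRebase.{u}) : PkgR1.{u} := by
  intro n F _ p r s t hpr hst h1 h2 h3 h4
  have h1' : B s p = 1 := by rw [B_comm]; exact h1
  have h2' : B t r = 1 := by rw [B_comm]; exact h2
  have h3' : B t p = 0 := by rw [B_comm]; exact h3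
  have h4' : B s r = 0 := by rw [B_comm]; exact h4
  exact ⟨r1_ne hP hE p r s t hpr hst h1 h2 h4, r1_nilp hP hA p r hpr, r1_nilp hP hA s t hst,
    r1_cond hP hE hA hC hR p r s t hpr hst h1 h2 h3 h4,
    r1_cond hP hE hA hC hR s t p r hst hpr h1' h2' h4' h3'⟩

end

end Cfsg.Agent.Lib.Helper43.Siegel
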